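import Mathlib
import Groth.Prelude.Def_CycAlg

/-!
# Hexagons and Herbrand quotients of periodic complexes
-/

set_option autoImplicit false
noncomputable section

universe u v

namespace Groth.Agent.CycHex

variable {R : Type u} [CommRing R]

local notation "ℓ" => Module.length R

section Lengths

variable {A B C : Type v} [AddCommGroup A] [Module R A] [AddCommGroup B] [Module R B] [AddCommGroup C] [Module R C]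

theorem split (f : A →ₗ[R] B) : ℓ A = ℓ (LinearMap.ker f) + ℓ (LinearMap.range f) :=
  Module.length_eq_add_of_exact (LinearMap.ker f).subtype f.rangeRestrict (Submodule.injective_subtype _)
    f.surjective_rangeRestrict fun x => by simp [Subtype.ext_iff]

theorem range_le (f : A →ₗ[R] B) : ℓ (LinearMap.range f) ≤ ℓ A ∧ ℓ (LinearMap.range f) ≤ ℓ B :=
  ⟨Module.length_le_of_surjective f.rangeRestrict f.surjective_rangeRestrict,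
    Module.length_le_of_injective (LinearMap.range f).subtype (Submodule.injective_subtype _)⟩

theorem middle {f : A →ₗ[R] B} {g : B →ₗ[R] C} (h : Function.Exact f g) :
    ℓ B = ℓ (LinearMap.range f) + ℓ (LinearMap.range g) := by
  rw [split g, show LinearMap.ker g = LinearMap.range f from LinearMap.exact_iff.1 h]

theorem middle_lt {f : A →ₗ[R] B} {g : B →ₗ[R] C} (h : Function.Exact f g) (hA : ℓ A < ⊤) (hC : ℓ C < ⊤) : ℓ B < ⊤ := by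
  rw [middle h]
  exact WithTop.add_lt_top.2 ⟨(range_le f).1.trans_lt hA, (range_le g).2.trans_lt hC⟩

end Lengths

theorem euler {A₁ A₂ A₃ B₁ B₂ B₃ : Type v} [AddCommGroup A₁] [Module R A₁] [AddCommGroup A₂] [Module R A₂]
    [AddCommGroup A₃] [Module R A₃] [AddCommGroup B₁] [Module R B₁] [AddCommGroup B₂] [Module R B₂]
    [AddCommGroup B₃] [Module R B₃] {a : A₁ →ₗ[R] A₂} {b : A₂ →ₗ[R] A₃} {c : A₃ →ₗ[R] B₁} {a' : B₁ →ₗ[R] B₂}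
    {b' : B₂ →ₗ[R] B₃} {c' : B₃ →ₗ[R] A₁} (h1 : Function.Exact a b) (h2 : Function.Exact b c) (h3 : Function.Exact c a')
    (h4 : Function.Exact a' b') (h5 : Function.Exact b' c') (h6 : Function.Exact c' a)
    (two : ((ℓ A₁ < ⊤ ∧ ℓ B₁ < ⊤) ∧ (ℓ A₂ < ⊤ ∧ ℓ B₂ < ⊤)) ∨ ((ℓ A₁ < ⊤ ∧ ℓ B₁ < ⊤) ∧ (ℓ A₃ < ⊤ ∧ ℓ B₃ < ⊤)) ∨
      ((ℓ A₂ < ⊤ ∧ ℓ B₂ < ⊤) ∧ (ℓ A₃ < ⊤ ∧ ℓ B₃ < ⊤))) :
    (ℓ A₁ < ⊤ ∧ ℓ B₁ < ⊤) ∧ (ℓ A₂ < ⊤ ∧ ℓ B₂ < ⊤) ∧ (ℓ A₃ < ⊤ ∧ ℓ B₃ < ⊤) ∧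
      ((ℓ A₂).toNat : ℤ) - (ℓ B₂).toNat = (((ℓ A₁).toNat : ℤ) - (ℓ B₁).toNat) + (((ℓ A₃).toNat : ℤ) - (ℓ B₃).toNat) := by
  have hall : (ℓ A₁ < ⊤ ∧ ℓ B₁ < ⊤) ∧ (ℓ A₂ < ⊤ ∧ ℓ B₂ < ⊤) ∧ (ℓ A₃ < ⊤ ∧ ℓ B₃ < ⊤) := by
    rcases two with ⟨p, q⟩ | ⟨p, q⟩ | ⟨p, q⟩
    · exact ⟨p, q, middle_lt h2 q.1 p.2, middle_lt h5 q.2 p.1⟩
    · exact ⟨p, ⟨middle_lt h1 p.1 q.1, middle_lt h4 p.2 q.2⟩, q⟩
    · exact ⟨⟨middle_lt h6 q.2 p.1, middle_lt h3 q.1 p.2⟩, p, q⟩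
  refine ⟨hall.1, hall.2.1, hall.2.2, ?_⟩
  obtain ⟨⟨fA1, fB1⟩, ⟨fA2, fB2⟩, ⟨fA3, fB3⟩⟩ := hall
  obtain ⟨r1, e1⟩ := WithTop.ne_top_iff_exists.1 ((range_le a).2.trans_lt fA2).ne
  obtain ⟨r2, e2⟩ := WithTop.ne_top_iff_exists.1 ((range_le b).2.trans_lt fA3).ne
  obtain ⟨r3, e3⟩ := WithTop.ne_top_iff_exists.1 ((range_le c).2.trans_lt fB1).ne
  obtain ⟨r4, e4⟩ := WithTop.ne_top_iff_exists.1 ((range_le a').2.trans_lt fB2).ne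
  obtain ⟨r5, e5⟩ := WithTop.ne_top_iff_exists.1 ((range_le b').2.trans_lt fB3).ne
  obtain ⟨r6, e6⟩ := WithTop.ne_top_iff_exists.1 ((range_le c').2.trans_lt fA1).ne
  rw [middle h1, middle h2, middle h3, middle h4, middle h5, middle h6, ← e1, ← e2, ← e3, ← e4, ← e5, ← e6]
  show (((r1 : ℕ∞) + (r2 : ℕ∞)).toNat : ℤ) - ((r4 : ℕ∞) + (r5 : ℕ∞)).toNat =
    ((((r6 : ℕ∞) + (r1 : ℕ∞)).toNat : ℤ) - ((r3 : ℕ∞) + (r4 : ℕ∞)).toNat) +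
    ((((r2 : ℕ∞) + (r3 : ℕ∞)).toNat : ℤ) - ((r5 : ℕ∞) + (r6 : ℕ∞)).toNat)
  simp only [← Nat.cast_add, ENat.toNat_coe]
  push_cast; ring

section Maps

open CycAlg

variable {M N M' N' : Type v} [AddCommGroup M] [Module R M] [AddCommGroup N] [Module R N]
  [AddCommGroup M'] [Module R M'] [AddCommGroup N'] [Module R N']

/-- The class map. -/
def cls (φ : M →ₗ[R] N) (ψ : N →ₗ[R] M) : LinearMap.ker φ →ₗ[R] perH φ ψ :=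
  Submodule.mkQ ((LinearMap.range ψ).submoduleOf (LinearMap.ker φ))

theorem cls_surjective (φ : M →ₗ[R] N) (ψ : N →ₗ[R] M) : Function.Surjective (cls φ ψ) :=
  Submodule.mkQ_surjective _

theorem cls_eq_zero {φ : M →ₗ[R] N} {ψ : N →ₗ[R] M} (x : LinearMap.ker φ) : cls φ ψ x = 0 ↔ ∃ n, ψ n = x := by
  rw [cls, Submodule.mkQ_apply, Submodule.Quotient.mk_eq_zero]
  rfl

theorem cls_eq {φ : M →ₗ[R] N} {ψ : N →ₗ[R] M} (x y : LinearMap.ker φ) :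
    cls φ ψ x = cls φ ψ y ↔ ∃ n, ψ n = (x : M) - (y : M) := by
  rw [← sub_eq_zero, ← map_sub, cls_eq_zero]; rfl

/-- Functoriality of `perH`. -/
def hmap (φ : M →ₗ[R] N) (ψ : N →ₗ[R] M) (φ' : M' →ₗ[R] N') (ψ' : N' →ₗ[R] M') (f : M →ₗ[R] M')
    (hk : ∀ x, φ x = 0 → φ' (f x) = 0) (hr : ∀ n, φ (ψ n) = 0 → ∃ n', ψ' n' = f (ψ n)) : perH φ ψ →ₗ[R] perH φ' ψ' :=
  ((LinearMap.range ψ).submoduleOf (LinearMap.ker φ)).mapQ _ (f.restrict fun x hx => hk x hx) fun x hx => by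
    obtain ⟨n, hn⟩ : ∃ n, ψ n = x := by simpa [Submodule.submoduleOf] using hx
    obtain ⟨n', hn'⟩ := hr n (by rw [hn]; exact x.2)
    simp only [Submodule.submoduleOf, Submodule.mem_comap]
    exact ⟨n', by rw [hn', hn]; rfl⟩

theorem hmap_cls {φ : M →ₗ[R] N} {ψ : N →ₗ[R] M} {φ' : M' →ₗ[R] N'} {ψ' : N' →ₗ[R] M'} {f : M →ₗ[R] M'}
    {hk : ∀ x, φ x = 0 → φ' (f x) = 0} {hr : ∀ n, φ (ψ n) = 0 → ∃ n', ψ' n' = f (ψ n)} (x : LinearMap.ker φ) :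
    hmap φ ψ φ' ψ' f hk hr (cls φ ψ x) = cls φ' ψ' ⟨f x, hk x x.2⟩ := rfl

end Maps

section Long

open CycAlg

variable {M₁ N₁ M₂ N₂ M₃ N₃ : Type v} [AddCommGroup M₁] [Module R M₁] [AddCommGroup N₁] [Module R N₁]
  [AddCommGroup M₂] [Module R M₂] [AddCommGroup N₂] [Module R N₂] [AddCommGroup M₃] [Module R M₃]
  [AddCommGroup N₃] [Module R N₃] {φ₁ : M₁ →ₗ[R] N₁} {ψ₁ : N₁ →ₗ[R] M₁} {φ₂ : M₂ →ₗ[R] N₂} {ψ₂ : N₂ →ₗ[R] M₂}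
  {φ₃ : M₃ →ₗ[R] N₃} {ψ₃ : N₃ →ₗ[R] M₃} {f₁ : M₁ →ₗ[R] M₂} {g₁ : N₁ →ₗ[R] N₂} {f₂ : M₂ →ₗ[R] M₃} {g₂ : N₂ →ₗ[R] N₃}
  (h₁ : IsPeriodic φ₁ ψ₁) (h₂ : IsPeriodic φ₂ ψ₂) (h₃ : IsPeriodic φ₃ ψ₃) (cφ₁ : ∀ x, φ₂ (f₁ x) = g₁ (φ₁ x))
  (cψ₁ : ∀ x, ψ₂ (g₁ x) = f₁ (ψ₁ x)) (cφ₂ : ∀ x, φ₃ (f₂ x) = g₂ (φ₂ x))
  (cψ₂ : ∀ x, ψ₃ (g₂ x) = f₂ (ψ₂ x)) (hf₁ : Function.Injective f₁) (hg₁ : Function.Injective g₁)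
  (hf₂ : Function.Surjective f₂) (hg₂ : Function.Surjective g₂) (hM : LinearMap.range f₁ = LinearMap.ker f₂)
  (hN : LinearMap.range g₁ = LinearMap.ker g₂)

include cφ₁ cψ₁ in
/-- First map. -/
def first : perH φ₁ ψ₁ →ₗ[R] perH φ₂ ψ₂ :=
  hmap φ₁ ψ₁ φ₂ ψ₂ f₁ (fun x hx => by rw [cφ₁, hx, map_zero]) fun n _ => ⟨g₁ n, cψ₁ n⟩

include cφ₂ cψ₂ in
/-- Second map. -/
def second : perH φ₂ ψ₂ →ₗ[R] perH φ₃ ψ₃ :=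
  hmap φ₂ ψ₂ φ₃ ψ₃ f₂ (fun x hx => by rw [cφ₂, hx, map_zero]) fun n _ => ⟨g₂ n, cψ₂ n⟩

include h₂ hg₁ hM hg₂ in
theorem exact_middle : Function.Exact (first (φ₁ := φ₁) (ψ₁ := ψ₁) cφ₁ cψ₁) (second (φ₃ := φ₃) (ψ₃ := ψ₃) cφ₂ cψ₂) := by
  intro z
  obtain ⟨x, rfl⟩ := cls_surjective _ _ z
  rw [second, hmap_cls, cls_eq_zero]
  refine ⟨fun ⟨n, hn⟩ => ?_, ?_⟩
  · obtain ⟨m, rfl⟩ := hg₂ n
    have : (x : M₂) - ψ₂ m ∈ LinearMap.range f₁ := by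
      rw [hM, LinearMap.mem_ker, map_sub, ← cψ₂, hn]
      exact sub_self _
    obtain ⟨a, ha⟩ := this
    have hh : φ₁ a = 0 := hg₁ (by
      rw [map_zero, ← cφ₁, ha, map_sub, (show φ₂ (x : M₂) = 0 from x.2),
        show φ₂ (ψ₂ m) = 0 from DFunLike.congr_fun h₂.1 m, sub_zero])
    exact ⟨cls φ₁ ψ₁ ⟨a, hh⟩, by
      rw [first, hmap_cls, cls_eq]
      refine ⟨-m, ?_⟩
      show ψ₂ (-m) = f₁ a - (x : M₂)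
      rw [map_neg, ha]; abel⟩
  · rintro ⟨w, hw⟩
    obtain ⟨a, rfl⟩ := cls_surjective _ _ w
    rw [first, hmap_cls, cls_eq] at hw
    obtain ⟨n, hn⟩ := hw
    refine ⟨-g₂ n, ?_⟩
    have h0 : f₂ (f₁ (a : M₁)) = 0 := by rw [← LinearMap.mem_ker, ← hM]; exact ⟨_, rfl⟩
    rw [map_neg, cψ₂, hn, map_sub, h0, zero_sub, neg_neg]

/-- The lift module. -/
def lifts (φ₃ : M₃ →ₗ[R] N₃) (f₂ : M₂ →ₗ[R] M₃) : Submodule R M₂ := (LinearMap.ker φ₃).comap f₂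

include h₂ cψ₁ cφ₂ hf₁ hg₁ hN in
theorem exists_pre (x : lifts φ₃ f₂) : ∃ y : LinearMap.ker ψ₁, g₁ y = φ₂ x := by
  obtain ⟨y, hy⟩ : φ₂ (x : M₂) ∈ LinearMap.range g₁ := by
    rw [hN, LinearMap.mem_ker, ← cφ₂]; exact x.2
  refine ⟨⟨y, hf₁ ?_⟩, hy⟩
  rw [map_zero, ← cψ₁, hy]
  exact DFunLike.congr_fun h₂.2 _

include h₂ cψ₁ cφ₂ hf₁ hg₁ hN in
/-- `x ↦ g₁⁻¹ φ₂ x`. -/
def preMap : lifts φ₃ f₂ →ₗ[R] perH ψ₁ φ₁ :=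
  (cls ψ₁ φ₁).comp
    { toFun := fun x => (exists_pre h₂ cψ₁ cφ₂ hf₁ hg₁ hN x).choose
      map_add' := fun x y => Subtype.ext (hg₁ (by
        rw [(exists_pre h₂ cψ₁ cφ₂ hf₁ hg₁ hN (x + y)).choose_spec, Submodule.coe_add (p := LinearMap.ker ψ₁), map_add g₁,
          (exists_pre h₂ cψ₁ cφ₂ hf₁ hg₁ hN x).choose_spec, (exists_pre h₂ cψ₁ cφ₂ hf₁ hg₁ hN y).choose_spec,
          Submodule.coe_add, map_add]))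
      map_smul' := fun c x => Subtype.ext (hg₁ (by
        rw [(exists_pre h₂ cψ₁ cφ₂ hf₁ hg₁ hN (c • x)).choose_spec, RingHom.id_apply,
          Submodule.coe_smul (p := LinearMap.ker ψ₁), map_smul g₁, (exists_pre h₂ cψ₁ cφ₂ hf₁ hg₁ hN x).choose_spec,
          Submodule.coe_smul, map_smul])) }

include h₂ cψ₁ cφ₂ hf₁ hg₁ hN in
theorem preMap_eq (x : lifts φ₃ f₂) (y : LinearMap.ker ψ₁) (hy : g₁ y = φ₂ x) :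
    preMap (φ₁ := φ₁) h₂ cψ₁ cφ₂ hf₁ hg₁ hN x = cls ψ₁ φ₁ y :=
  congrArg (cls ψ₁ φ₁) (Subtype.ext (hg₁ (((exists_pre h₂ cψ₁ cφ₂ hf₁ hg₁ hN x).choose_spec).trans hy.symm)))

/-- `x ↦ [f₂ x]`. -/
def down : lifts φ₃ f₂ →ₗ[R] perH φ₃ ψ₃ :=
  (cls φ₃ ψ₃).comp (f₂.restrict (p := lifts φ₃ f₂) (q := LinearMap.ker φ₃) fun _ hx => hx)

include hf₂ in
theorem down_surjective : Function.Surjective (down (ψ₃ := ψ₃) (φ₃ := φ₃) (f₂ := f₂)) := fun z => by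
  obtain ⟨w, rfl⟩ := cls_surjective _ _ z
  obtain ⟨x, hx⟩ := hf₂ w
  exact ⟨⟨x, show f₂ x ∈ LinearMap.ker φ₃ from hx ▸ w.2⟩, congrArg (cls φ₃ ψ₃) (Subtype.ext hx)⟩

include h₂ cφ₁ cψ₁ cφ₂ cψ₂ hf₁ hg₁ hg₂ hM hN in
theorem ker_down_le : LinearMap.ker (down (ψ₃ := ψ₃) (φ₃ := φ₃) (f₂ := f₂)) ≤
    LinearMap.ker (preMap (φ₁ := φ₁) h₂ cψ₁ cφ₂ hf₁ hg₁ hN) := fun x hx => by
  obtain ⟨n, hn⟩ := (cls_eq_zero _).1 hx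
  obtain ⟨m, rfl⟩ := hg₂ n
  obtain ⟨a, ha⟩ : (x : M₂) - ψ₂ m ∈ LinearMap.range f₁ := by
    rw [hM, LinearMap.mem_ker, map_sub, ← cψ₂, hn]
    exact sub_self _
  have e : g₁ (φ₁ a) = φ₂ x := by
    rw [← cφ₁, ha, map_sub, show φ₂ (ψ₂ m) = 0 from DFunLike.congr_fun h₂.1 m, sub_zero]
  have hk : ψ₁ (φ₁ a) = 0 := hf₁ (by
    rw [map_zero, ← cψ₁, e]
    exact DFunLike.congr_fun h₂.2 _)
  rw [LinearMap.mem_ker, preMap_eq h₂ cψ₁ cφ₂ hf₁ hg₁ hN x ⟨φ₁ a, hk⟩ e, cls_eq_zero]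
  exact ⟨a, rfl⟩

include h₂ cφ₁ cψ₁ cφ₂ cψ₂ hf₁ hg₁ hf₂ hg₂ hM hN in
/-- The connecting map. -/
def conn : perH φ₃ ψ₃ →ₗ[R] perH ψ₁ φ₁ :=
  ((LinearMap.ker (down (ψ₃ := ψ₃) (φ₃ := φ₃) (f₂ := f₂))).liftQ (preMap h₂ cψ₁ cφ₂ hf₁ hg₁ hN)
      (ker_down_le h₂ cφ₁ cψ₁ cφ₂ cψ₂ hf₁ hg₁ hg₂ hM hN)).comp
    (LinearMap.quotKerEquivOfSurjective _ (down_surjective hf₂)).symm.toLinearMap

include h₂ cφ₁ cψ₁ cφ₂ cψ₂ hf₁ hg₁ hf₂ hg₂ hM hN in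
theorem conn_down (x : lifts φ₃ f₂) : conn (φ₁ := φ₁) (ψ₃ := ψ₃) h₂ cφ₁ cψ₁ cφ₂ cψ₂ hf₁ hg₁ hf₂ hg₂ hM hN (down x) =
    preMap h₂ cψ₁ cφ₂ hf₁ hg₁ hN x := by
  rw [conn, LinearMap.comp_apply, LinearEquiv.coe_coe, show (LinearMap.quotKerEquivOfSurjective _
    (down_surjective (ψ₃ := ψ₃) hf₂)).symm (down x) = Submodule.Quotient.mk x from
    (LinearEquiv.symm_apply_eq _).2 rfl, Submodule.liftQ_apply]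

include h₂ cφ₁ cψ₁ cφ₂ cψ₂ hf₁ hg₁ hf₂ hg₂ hM hN in
theorem exact_conn : Function.Exact (second (φ₂ := φ₂) (ψ₂ := ψ₂) cφ₂ cψ₂)
    (conn (φ₁ := φ₁) (ψ₃ := ψ₃) h₂ cφ₁ cψ₁ cφ₂ cψ₂ hf₁ hg₁ hf₂ hg₂ hM hN) := by
  intro z
  obtain ⟨x, rfl⟩ := down_surjective (ψ₃ := ψ₃) hf₂ z
  rw [conn_down]
  obtain ⟨y, hy⟩ := exists_pre h₂ cψ₁ cφ₂ hf₁ hg₁ hN x
  rw [preMap_eq h₂ cψ₁ cφ₂ hf₁ hg₁ hN x y hy, cls_eq_zero]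
  refine ⟨fun ⟨a, ha⟩ => ?_, ?_⟩
  · have hk : φ₂ ((x : M₂) - f₁ a) = 0 := by rw [map_sub, cφ₁, ha, hy, sub_self]
    refine ⟨cls φ₂ ψ₂ ⟨_, hk⟩, ?_⟩
    rw [second, hmap_cls, down, LinearMap.comp_apply]
    refine congrArg (cls φ₃ ψ₃) (Subtype.ext ?_)
    show f₂ ((x : M₂) - f₁ a) = f₂ x
    rw [map_sub, show f₂ (f₁ a) = 0 from by rw [← LinearMap.mem_ker, ← hM]; exact ⟨a, rfl⟩, sub_zero]
  · rintro ⟨w, hw⟩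
    obtain ⟨b, rfl⟩ := cls_surjective _ _ w
    have hb : (b : M₂) ∈ lifts φ₃ f₂ := by
      show φ₃ (f₂ (b : M₂)) = 0
      rw [cφ₂, show φ₂ (b : M₂) = 0 from b.2, map_zero]
    have hd : down (ψ₃ := ψ₃) (⟨b, hb⟩ - x : lifts φ₃ f₂) = 0 := by
      rw [map_sub, sub_eq_zero]; exact hw
    have h0 := ker_down_le h₂ cφ₁ cψ₁ cφ₂ cψ₂ hf₁ hg₁ hg₂ hM hN (LinearMap.mem_ker.2 hd)
    rw [LinearMap.mem_ker, preMap_eq h₂ cψ₁ cφ₂ hf₁ hg₁ hN _ (-y) (by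
      show g₁ (-(y : N₁)) = φ₂ ((b : M₂) - (x : M₂))
      rw [map_neg, map_sub, show φ₂ (b : M₂) = 0 from b.2, hy, zero_sub]), map_neg, neg_eq_zero, cls_eq_zero] at h0
    exact h0

include h₂ cφ₁ cψ₁ cφ₂ cψ₂ hf₁ hg₁ hf₂ hg₂ hM hN in
theorem exact_after : Function.Exact (conn (φ₁ := φ₁) (ψ₃ := ψ₃) h₂ cφ₁ cψ₁ cφ₂ cψ₂ hf₁ hg₁ hf₂ hg₂ hM hN)
    (first (φ₁ := ψ₁) (ψ₁ := φ₁) (φ₂ := ψ₂) (ψ₂ := φ₂) cψ₁ cφ₁) := by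
  intro z
  obtain ⟨y, rfl⟩ := cls_surjective _ _ z
  rw [first, hmap_cls, cls_eq_zero]
  refine ⟨fun ⟨x, hx⟩ => ?_, ?_⟩
  · have hmem : x ∈ lifts φ₃ f₂ := by
      show φ₃ (f₂ x) = 0
      rw [cφ₂, hx]
      show g₂ (g₁ (y : N₁)) = 0
      rw [← LinearMap.mem_ker, ← hN]; exact ⟨_, rfl⟩
    exact ⟨down ⟨x, hmem⟩, by rw [conn_down, preMap_eq h₂ cψ₁ cφ₂ hf₁ hg₁ hN ⟨x, hmem⟩ y hx.symm]⟩
  · rintro ⟨w, hw⟩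
    obtain ⟨x, rfl⟩ := down_surjective (ψ₃ := ψ₃) hf₂ w
    obtain ⟨y', hy'⟩ := exists_pre h₂ cψ₁ cφ₂ hf₁ hg₁ hN x
    rw [conn_down, preMap_eq h₂ cψ₁ cφ₂ hf₁ hg₁ hN x y' hy', cls_eq] at hw
    obtain ⟨a, ha⟩ := hw
    refine ⟨(x : M₂) - f₁ a, ?_⟩
    rw [map_sub, ← hy', cφ₁, ← map_sub, ha]
    simp

end Long

end Groth.Agent.CycHex
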