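import Groth.Agent.CycHex.Basic

/-!
# Additivity and invariance of the Herbrand quotient
-/

set_option autoImplicit false
noncomputable section

universe u v

namespace Groth.Agent.CycHex

open CycAlg

variable {R : Type u} [CommRing R]

local notation "ℓ" => Module.length R

theorem additive {M₁ N₁ M₂ N₂ M₃ N₃ : Type v} [AddCommGroup M₁] [Module R M₁] [AddCommGroup N₁] [Module R N₁]
    [AddCommGroup M₂] [Module R M₂] [AddCommGroup N₂] [Module R N₂] [AddCommGroup M₃] [Module R M₃]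
    [AddCommGroup N₃] [Module R N₃] (φ₁ : M₁ →ₗ[R] N₁) (ψ₁ : N₁ →ₗ[R] M₁) (φ₂ : M₂ →ₗ[R] N₂) (ψ₂ : N₂ →ₗ[R] M₂)
    (φ₃ : M₃ →ₗ[R] N₃) (ψ₃ : N₃ →ₗ[R] M₃) (h₂ : IsPeriodic φ₂ ψ₂) (f₁ : M₁ →ₗ[R] M₂) (g₁ : N₁ →ₗ[R] N₂)
    (f₂ : M₂ →ₗ[R] M₃) (g₂ : N₂ →ₗ[R] N₃) (cφ₁ : φ₂ ∘ₗ f₁ = g₁ ∘ₗ φ₁) (cψ₁ : ψ₂ ∘ₗ g₁ = f₁ ∘ₗ ψ₁)
    (cφ₂ : φ₃ ∘ₗ f₂ = g₂ ∘ₗ φ₂) (cψ₂ : ψ₃ ∘ₗ g₂ = f₂ ∘ₗ ψ₂) (hf₁ : Function.Injective f₁) (hg₁ : Function.Injective g₁)
    (hf₂ : Function.Surjective f₂) (hg₂ : Function.Surjective g₂) (hM : LinearMap.range f₁ = LinearMap.ker f₂)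
    (hN : LinearMap.range g₁ = LinearMap.ker g₂)
    (htwo : (FinCoh R φ₁ ψ₁ ∧ FinCoh R φ₂ ψ₂) ∨ (FinCoh R φ₁ ψ₁ ∧ FinCoh R φ₃ ψ₃) ∨ (FinCoh R φ₂ ψ₂ ∧ FinCoh R φ₃ ψ₃)) :
    FinCoh R φ₁ ψ₁ ∧ FinCoh R φ₂ ψ₂ ∧ FinCoh R φ₃ ψ₃ ∧ herbrand R φ₂ ψ₂ = herbrand R φ₁ ψ₁ + herbrand R φ₃ ψ₃ := by
  have a1 : ∀ x, φ₂ (f₁ x) = g₁ (φ₁ x) := fun x => DFunLike.congr_fun cφ₁ x
  have a2 : ∀ x, ψ₂ (g₁ x) = f₁ (ψ₁ x) := fun x => DFunLike.congr_fun cψ₁ x
  have a3 : ∀ x, φ₃ (f₂ x) = g₂ (φ₂ x) := fun x => DFunLike.congr_fun cφ₂ x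
  have a4 : ∀ x, ψ₃ (g₂ x) = f₂ (ψ₂ x) := fun x => DFunLike.congr_fun cψ₂ x
  have h₂' : IsPeriodic ψ₂ φ₂ := ⟨h₂.2, h₂.1⟩
  exact euler (exact_middle h₂ a1 a2 a3 a4 hg₁ hg₂ hM)
    (exact_conn h₂ a1 a2 a3 a4 hf₁ hg₁ hf₂ hg₂ hM hN) (exact_after h₂ a1 a2 a3 a4 hf₁ hg₁ hf₂ hg₂ hM hN)
    (exact_middle h₂' a2 a1 a4 a3 hf₁ hf₂ hN) (exact_conn h₂' a2 a1 a4 a3 hg₁ hf₁ hg₂ hf₂ hN hM)
    (exact_after h₂' a2 a1 a4 a3 hg₁ hf₁ hg₂ hf₂ hN hM) htwo

theorem finite_length {M N : Type v} [AddCommGroup M] [Module R M] [AddCommGroup N] [Module R N] (φ : M →ₗ[R] N)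
    (ψ : N →ₗ[R] M) (h : IsPeriodic φ ψ) (hM : ℓ M < ⊤) (hN : ℓ N < ⊤) :
    FinCoh R φ ψ ∧ herbrand R φ ψ = ((ℓ M).toNat : ℤ) - ((ℓ N).toNat : ℤ) := by
  have key : ∀ {A B : Type v} [AddCommGroup A] [Module R A] [AddCommGroup B] [Module R B] (f : A →ₗ[R] B)
      (g : B →ₗ[R] A), f ∘ₗ g = 0 → ℓ A = ℓ (perH f g) + ℓ (LinearMap.range g) + ℓ (LinearMap.range f) := by
    intro A B _ _ _ _ f g hfg
    have hle : LinearMap.range g ≤ LinearMap.ker f := by rintro _ ⟨x, rfl⟩; exact DFunLike.congr_fun hfg x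
    have e1 : ℓ (LinearMap.ker f) = ℓ ((LinearMap.range g).submoduleOf (LinearMap.ker f)) + ℓ (perH f g) :=
      Module.length_eq_add_of_exact _ _ (Submodule.injective_subtype _) (Submodule.mkQ_surjective _)
        (LinearMap.exact_subtype_mkQ _)
    have e2 : ℓ ((LinearMap.range g).submoduleOf (LinearMap.ker f)) = ℓ (LinearMap.range g) :=
      LinearEquiv.length_eq (Submodule.submoduleOfEquivOfLe hle)
    rw [split f, e1, e2, add_comm (ℓ (LinearMap.range g))]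
  have k1 := key φ ψ h.1
  have k2 := key ψ φ h.2
  have fM := hM
  have fN := hN
  rw [k1] at fM
  rw [k2] at fN
  replace fM := And.intro (And.intro ((le_self_add.trans le_self_add).trans_lt fM)
    ((le_add_self.trans le_self_add).trans_lt fM)) (le_add_self.trans_lt fM)
  replace fN := And.intro (And.intro ((le_self_add.trans le_self_add).trans_lt fN)
    ((le_add_self.trans le_self_add).trans_lt fN)) (le_add_self.trans_lt fN)
  refine ⟨⟨fM.1.1, fN.1.1⟩, ?_⟩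
  obtain ⟨a, ea⟩ := WithTop.ne_top_iff_exists.1 fM.1.1.ne
  obtain ⟨b, eb⟩ := WithTop.ne_top_iff_exists.1 fN.1.1.ne
  obtain ⟨c, ec⟩ := WithTop.ne_top_iff_exists.1 fM.1.2.ne
  obtain ⟨d, ed⟩ := WithTop.ne_top_iff_exists.1 fN.1.2.ne
  rw [herbrand, k1, k2, ← ea, ← eb, ← ec, ← ed]
  show ((a : ℕ∞).toNat : ℤ) - (b : ℕ∞).toNat = (((a : ℕ∞) + c + d).toNat : ℤ) - ((b : ℕ∞) + d + c).toNat
  simp only [← Nat.cast_add, ENat.toNat_coe]
  push_cast; ring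

theorem of_finite_ker_coker {M M' : Type v} [AddCommGroup M] [Module R M] [AddCommGroup M'] [Module R M']
    (φ ψ : M →ₗ[R] M) (φ' ψ' : M' →ₗ[R] M') (h : IsPeriodic φ ψ) (h' : IsPeriodic φ' ψ') (f : M →ₗ[R] M')
    (cφ : φ' ∘ₗ f = f ∘ₗ φ) (cψ : ψ' ∘ₗ f = f ∘ₗ ψ) (hfin : FinCoh R φ ψ) (hfin' : FinCoh R φ' ψ')
    (hker : ℓ (LinearMap.ker f) < ⊤) (hcoker : ℓ (M' ⧸ LinearMap.range f) < ⊤) :
    herbrand R φ ψ = herbrand R φ' ψ' := by
  have cφ' : ∀ x, φ' (f x) = f (φ x) := fun x => DFunLike.congr_fun cφ x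
  have cψ' : ∀ x, ψ' (f x) = f (ψ x) := fun x => DFunLike.congr_fun cψ x
  let φk := φ.restrict (p := LinearMap.ker f) (q := LinearMap.ker f) fun x hx => by
    rw [LinearMap.mem_ker] at *; rw [← cφ', hx, map_zero]
  let ψk := ψ.restrict (p := LinearMap.ker f) (q := LinearMap.ker f) fun x hx => by
    rw [LinearMap.mem_ker] at *; rw [← cψ', hx, map_zero]
  let φr := φ'.restrict (p := LinearMap.range f) (q := LinearMap.range f) fun x hx => by
    obtain ⟨y, rfl⟩ := hx; exact ⟨φ y, (cφ' y).symm⟩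
  let ψr := ψ'.restrict (p := LinearMap.range f) (q := LinearMap.range f) fun x hx => by
    obtain ⟨y, rfl⟩ := hx; exact ⟨ψ y, (cψ' y).symm⟩
  let φc := (LinearMap.range f).mapQ (LinearMap.range f) φ' fun x hx => by
    obtain ⟨y, rfl⟩ := hx; exact ⟨φ y, (cφ' y).symm⟩
  let ψc := (LinearMap.range f).mapQ (LinearMap.range f) ψ' fun x hx => by
    obtain ⟨y, rfl⟩ := hx; exact ⟨ψ y, (cψ' y).symm⟩
  have pk : IsPeriodic φk ψk := ⟨LinearMap.ext fun x => Subtype.ext (DFunLike.congr_fun h.1 _),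
    LinearMap.ext fun x => Subtype.ext (DFunLike.congr_fun h.2 _)⟩
  have pc : IsPeriodic φc ψc := ⟨Submodule.linearMap_qext _ (LinearMap.ext fun x =>
    congrArg (Submodule.Quotient.mk (p := LinearMap.range f)) (DFunLike.congr_fun h'.1 x)),
    Submodule.linearMap_qext _ (LinearMap.ext fun x =>
    congrArg (Submodule.Quotient.mk (p := LinearMap.range f)) (DFunLike.congr_fun h'.2 x))⟩
  have zk := finite_length φk ψk pk hker hker
  have zc := finite_length φc ψc pc hcoker hcoker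
  have s1 := additive φk ψk φ ψ φr ψr h (LinearMap.ker f).subtype (LinearMap.ker f).subtype f.rangeRestrict f.rangeRestrict
    rfl rfl (LinearMap.ext fun x => Subtype.ext (cφ' x)) (LinearMap.ext fun x => Subtype.ext (cψ' x))
    (Submodule.injective_subtype _) (Submodule.injective_subtype _) f.surjective_rangeRestrict f.surjective_rangeRestrict
    (by simp) (by simp) (Or.inl ⟨zk.1, hfin⟩)
  have s2 := additive φr ψr φ' ψ' φc ψc h' (LinearMap.range f).subtype (LinearMap.range f).subtype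
    (LinearMap.range f).mkQ (LinearMap.range f).mkQ rfl rfl rfl rfl (Submodule.injective_subtype _)
    (Submodule.injective_subtype _) (Submodule.mkQ_surjective _) (Submodule.mkQ_surjective _)
    (by simp) (by simp) (Or.inl ⟨s1.2.2.1, hfin'⟩)
  rw [s1.2.2.2, s2.2.2.2, zk.2, zc.2, sub_self, sub_self, zero_add, add_zero]

section Power

variable {M : Type v} [AddCommGroup M] [Module R M] (φ : M →ₗ[R] M) (n : ℕ)

/-- `H_a`. -/
abbrev H (a : ℕ) : Type v := perH (φ ^ a) (φ ^ (n - a))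

theorem pow_add_apply (a b : ℕ) (x : M) : (φ ^ a) ((φ ^ b) x) = (φ ^ (a + b)) x := by
  rw [pow_add, Module.End.mul_apply]

/-- Inclusion `H_a → H_b`. -/
def incl (a b : ℕ) (hab : a ≤ b) (hb : b ≤ n) : H φ n a →ₗ[R] H φ n b :=
  hmap (φ ^ a) (φ ^ (n - a)) (φ ^ b) (φ ^ (n - b)) LinearMap.id
    (fun x hx => by rw [LinearMap.id_apply, show b = (b - a) + a by omega, ← pow_add_apply φ, hx, map_zero])
    fun y _ => ⟨(φ ^ (b - a)) y, by rw [LinearMap.id_apply, pow_add_apply φ]; congr 2; omega⟩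

/-- `φ^a : H_b → H_c`, `a + c = b`. -/
def pw (a b c : ℕ) (hc : a + c = b) (hb : b ≤ n) : H φ n b →ₗ[R] H φ n c :=
  hmap (φ ^ b) (φ ^ (n - b)) (φ ^ c) (φ ^ (n - c)) (φ ^ a)
    (fun x hx => by rw [pow_add_apply φ, show c + a = b by omega, hx])
    fun y _ => ⟨y, by rw [pow_add_apply φ]; congr 2; omega⟩

theorem exact_incl_pw (a b c : ℕ) (hbc : a + c = b) (hb : b ≤ n) :
    Function.Exact (incl φ n a b (by omega) hb) (pw φ n a b c hbc hb) := by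
  intro z
  obtain ⟨x, rfl⟩ := cls_surjective _ _ z
  rw [pw, hmap_cls, cls_eq_zero]
  refine ⟨fun ⟨y, hy⟩ => ?_, ?_⟩
  · have hy' : (φ ^ (n - c)) y = (φ ^ a) (x : M) := hy
    have hk : (φ ^ a) ((x : M) - (φ ^ (n - b)) y) = 0 := by
      rw [map_sub, ← hy', pow_add_apply φ, show a + (n - b) = n - c by omega, sub_self]
    refine ⟨cls _ _ ⟨_, hk⟩, ?_⟩
    rw [incl, hmap_cls, cls_eq]
    refine ⟨-y, ?_⟩
    show (φ ^ (n - b)) (-y) = ((x : M) - (φ ^ (n - b)) y) - (x : M)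
    rw [map_neg]; abel
  · rintro ⟨w, hw⟩
    obtain ⟨u, rfl⟩ := cls_surjective _ _ w
    rw [incl, hmap_cls, cls_eq] at hw
    obtain ⟨y, hy⟩ := hw
    refine ⟨-y, ?_⟩
    have hy' : (φ ^ (n - b)) y = (u : M) - (x : M) := hy
    have hu : (φ ^ a) (u : M) = 0 := u.2
    show (φ ^ (n - c)) (-y) = (φ ^ a) (x : M)
    rw [show n - c = a + (n - b) by omega, ← pow_add_apply φ, map_neg, hy', neg_sub, map_sub, hu, sub_zero]

theorem exact_pw_incl (a b c d : ℕ) (hbc : a + c = b) (hb : b ≤ n) (hcd : c ≤ d) (hd : d ≤ n) (had : a + d = n) :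
    Function.Exact (pw φ n a b c hbc hb) (incl φ n c d hcd hd) := by
  intro z
  obtain ⟨x, rfl⟩ := cls_surjective _ _ z
  rw [incl, hmap_cls, cls_eq_zero]
  refine ⟨fun ⟨y, hy⟩ => ?_, ?_⟩
  · have hy' : (φ ^ (n - d)) y = (x : M) := hy
    rw [show n - d = a by omega] at hy'
    have hk : (φ ^ b) y = 0 := by
      rw [show b = c + a by omega, ← pow_add_apply φ, hy']
      exact x.2
    refine ⟨cls _ _ ⟨y, hk⟩, ?_⟩
    rw [pw, hmap_cls]
    exact congrArg _ (Subtype.ext hy')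
  · rintro ⟨w, hw⟩
    obtain ⟨u, rfl⟩ := cls_surjective _ _ w
    rw [pw, hmap_cls, cls_eq] at hw
    obtain ⟨y, hy⟩ := hw
    refine ⟨(u : M) - (φ ^ (n - b)) y, ?_⟩
    have hy' : (φ ^ (n - c)) y = (φ ^ a) (u : M) - (x : M) := hy
    show (φ ^ (n - d)) ((u : M) - (φ ^ (n - b)) y) = (x : M)
    rw [show n - d = a by omega, map_sub, pow_add_apply φ, show a + (n - b) = n - c by omega, hy']
    abel

variable (hφ : φ ^ n = 0)

include hφ in
theorem power_vanish (hn : 0 < n) (hfin : ℓ (perH φ (φ ^ (n - 1))) < ⊤) (i : ℕ) (hi : i ≤ n) :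
    FinCoh R (φ ^ i) (φ ^ (n - i)) ∧ herbrand R (φ ^ i) (φ ^ (n - i)) = 0 := by
  have h1 : ℓ (H φ n 1) < ⊤ := by
    show ℓ (perH (φ ^ 1) (φ ^ (n - 1))) < ⊤
    rw [pow_one]; exact hfin
  have hz : ℓ (H φ n 0) = 0 := by
    haveI : Subsingleton (H φ n 0) := ⟨fun a b => by
      obtain ⟨⟨x, hx⟩, rfl⟩ := cls_surjective _ _ a
      obtain ⟨⟨y, hy⟩, rfl⟩ := cls_surjective _ _ b
      simp at hx hy
      subst hx hy; rfl⟩
    exact Module.length_eq_zero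
  have hn' : ℓ (H φ n n) = 0 := by
    haveI : Subsingleton (H φ n n) := ⟨fun a b => by
      obtain ⟨x, rfl⟩ := cls_surjective _ _ a
      obtain ⟨y, rfl⟩ := cls_surjective _ _ b
      rw [cls_eq]
      exact ⟨(x : M) - (y : M), by simp⟩⟩
    exact Module.length_eq_zero
  have fin : ∀ b, b ≤ n → ℓ (H φ n b) < ⊤ := by
    intro b
    induction b with
    | zero => intro _; rw [hz]; exact WithTop.coe_lt_top _
    | succ b ih =>
      intro hb
      exact middle_lt (exact_incl_pw φ n 1 (b + 1) b (by omega) hb) h1 (ih (by omega))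
  have hH : ∀ a b, a + b = n → ℓ (perH (φ ^ a) (φ ^ b)) = ℓ (H φ n a) := fun a b e => by
    obtain rfl : b = n - a := by omega
    rfl
  refine ⟨⟨fin i hi, ?_⟩, ?_⟩
  · rw [hH (n - i) i (by omega)]; exact fin (n - i) (by omega)
  let d : ℕ → ℤ := fun a => ((ℓ (H φ n a)).toNat : ℤ) - ((ℓ (H φ n (n - a))).toNat : ℤ)
  have step : ∀ b, b + 1 ≤ n → d (b + 1) = d 1 + d b := fun b hb =>
    (euler (exact_incl_pw φ n 1 (b + 1) b (by omega) hb)
      (exact_pw_incl φ n 1 (b + 1) b (n - 1) (by omega) hb (by omega) (by omega) (by omega))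
      (exact_incl_pw φ n b (n - 1) (n - (b + 1)) (by omega) (by omega))
      (exact_pw_incl φ n b (n - 1) (n - (b + 1)) (n - b) (by omega) (by omega) (by omega) (by omega) (by omega))
      (exact_incl_pw φ n (n - (b + 1)) (n - b) 1 (by omega) (by omega))
      (exact_pw_incl φ n (n - (b + 1)) (n - b) 1 (b + 1) (by omega) (by omega) (by omega) hb (by omega))
      (Or.inl ⟨⟨h1, fin _ (by omega)⟩, fin _ hb, fin _ (by omega)⟩)).2.2.2
  have d0 : d 0 = 0 := by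
    show ((ℓ (H φ n 0)).toNat : ℤ) - ((ℓ (H φ n (n - 0))).toNat : ℤ) = 0
    rw [show ℓ (H φ n (n - 0)) = ℓ (H φ n n) from rfl, hz, hn']; simp
  have mul : ∀ b, b ≤ n → d b = b * d 1 := fun b => by
    induction b with
    | zero => intro _; simp [d0]
    | succ b ih => intro hb; rw [step b hb, ih (by omega)]; push_cast; ring
  have e1 : d 1 = 0 := by
    have h := mul n le_rfl
    have : d n = 0 := by
      show ((ℓ (H φ n n)).toNat : ℤ) - ((ℓ (H φ n (n - n))).toNat : ℤ) = 0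
      rw [hn', (fun a e => e ▸ hz : ∀ a, a = 0 → ℓ (H φ n a) = 0) (n - n) (by omega)]; simp
    rw [this, eq_comm, mul_eq_zero] at h
    exact h.resolve_left (by exact_mod_cast hn.ne')
  have hdi := mul i hi
  rw [e1, mul_zero] at hdi
  rw [herbrand, hH i (n - i) (by omega), hH (n - i) i (by omega)]
  exact hdi

end Power

end Groth.Agent.CycHex
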